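import Cfsg.Agent.CharMult.Basic
import Cfsg.Agent.CN.Solvable
import Cfsg.Agent.TwoFrobenius.Main

/-!
The structure of the groups with multiplicative characters on coprime prime power elements.
-/

set_option autoImplicit false
set_option linter.style.haveILetI false

namespace CfsgLib.CharMult

open Cfsg CfsgLib.CharBasics
open scoped ComplexConjugate commutatorElement

variable {G : Type*} [Group G]

theorem structure_of_mulCond [Finite G] (hM : MulCond G) (hp' : ¬ ∃ p : ℕ, p.Prime ∧ IsPGroup p G)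
    (hab : ¬ IsMulCommutative G) :
    ∃ (p : ℕ) (_ : Fact p.Prime) (P : Sylow p G) (A : Subgroup G), (P : Subgroup G).Normal ∧ IsCyclic ↥A ∧
      A ≠ ⊥ ∧ (Nat.card ↥A).Coprime p ∧ A ⊔ (P : Subgroup G) = ⊤ ∧
      IsMulCommutative ↥((P : Subgroup G) ⊓ Subgroup.centralizer (A : Set G)) ∧
      (⁅A, (P : Subgroup G)⁆).Normal ∧
      ((P : Subgroup G) ⊓ Subgroup.centralizer (A : Set G)) ⊔ ⁅A, (P : Subgroup G)⁆ = (P : Subgroup G) ∧
      ((P : Subgroup G) ⊓ Subgroup.centralizer (A : Set G)) ⊓ ⁅A, (P : Subgroup G)⁆ = ⊥ ∧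
      ∀ a ∈ A, a ≠ 1 → ∀ d ∈ ⁅A, (P : Subgroup G)⁆, a * d = d * a → d = 1 := by
  classical
  haveI := Fintype.ofFinite G
  haveI := finite_irrCharacter (G := G)
  haveI := Fintype.ofFinite (IrrCharacter G)
  obtain ⟨p, hpF, P, hGP, hvan⟩ := exists_core hM hab
  haveI hPn : (P : Subgroup G).Normal := Subgroup.Normal.of_commutator_le (G := G) (H := (P : Subgroup G)) hGP
  have hco : Nat.Coprime (Nat.card (P : Subgroup G)) (P : Subgroup G).index := by
    obtain ⟨n, hn⟩ := IsPGroup.iff_card.mp P.isPGroup'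
    rw [hn]
    exact ((Nat.Prime.coprime_iff_not_dvd hpF.out).mpr P.not_dvd_index).pow_left n
  obtain ⟨A, hA⟩ := Subgroup.exists_right_complement'_of_coprime hco
  have hAcard : Nat.card A = (P : Subgroup G).index := by rw [← hA.symm.index_eq_card]
  have hAp : (Nat.card A).Coprime p := by
    rw [hAcard]
    exact ((Nat.Prime.coprime_iff_not_dvd hpF.out).mpr P.not_dvd_index).symm
  have hAne : A ≠ ⊥ := by
    intro h
    apply hp'
    refine ⟨p, hpF.out, ?_⟩
    have h1 : (P : Subgroup G).index = 1 := by rw [← hAcard, h, Subgroup.card_bot]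
    have h2 := P.isPGroup'
    rw [Subgroup.index_eq_one.mp h1] at h2
    exact h2.of_equiv Subgroup.topEquiv
  have hAP : (P : Subgroup G) ⊓ A = ⊥ := disjoint_iff.mp hA.disjoint
  have hsup : A ⊔ (P : Subgroup G) = ⊤ := by rw [sup_comm]; exact hA.sup_eq_top
  have hAcomm : ∀ a ∈ A, ∀ b ∈ A, a * b = b * a := by
    intro a ha b hb
    rw [← commutatorElement_eq_one_iff_mul_comm, ← Subgroup.mem_bot, ← hAP]
    exact ⟨hGP (Subgroup.commutator_mem_commutator (Subgroup.mem_top a) (Subgroup.mem_top b)),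
      A.mul_mem (A.mul_mem (A.mul_mem ha hb) (A.inv_mem ha)) (A.inv_mem hb)⟩
  -- elements of prime order in the complement
  have hprime : ∀ a ∈ A, (orderOf a).Prime →
      Nat.card (Subgroup.centralizer ({a} : Set G)) = (commutator G).index ∧
      ∀ d ∈ commutator G, a * d = d * a → d = 1 := by
    intro a ha hq
    have hqA : orderOf a ∣ Nat.card A := Subgroup.orderOf_dvd_natCard A ha
    have hqp : orderOf a ≠ p := fun h =>
      (Nat.Prime.coprime_iff_not_dvd hpF.out).mp hAp.symm (h ▸ hqA)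
    have ha1 : a ≠ 1 := fun h => by rw [h, orderOf_one] at hq; exact Nat.not_prime_one hq
    have hcard := centralizer_card_of_vanish (g := a) fun χ hχ =>
      hvan χ _ a hχ hq hqp ha1 ⟨1, (pow_one _).symm⟩
    refine ⟨hcard, fun d hd hcomm => ?_⟩
    obtain ⟨x, hx⟩ := exists_conj_eq_mul hcard hd
    have h1 : orderOf (a * d) = orderOf a := by rw [← hx]; exact (MulAut.conj x).orderOf_eq a
    obtain ⟨k, hk⟩ := IsPGroup.iff_orderOf.mp P.isPGroup' ⟨d, hGP hd⟩
    rw [Subgroup.orderOf_mk] at hk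
    have hco2 : (orderOf a).Coprime (orderOf d) := by
      rw [hk]
      exact ((Nat.coprime_primes hq hpF.out).mpr hqp).pow_right k
    rw [(show Commute a d from hcomm).orderOf_mul_eq_mul_orderOf_of_coprime hco2] at h1
    rw [← orderOf_eq_one_iff]
    exact (Nat.mul_eq_left hq.ne_zero).mp h1
  have hfpf : ∀ a ∈ A, a ≠ 1 → ∀ d ∈ commutator G, a * d = d * a → d = 1 := by
    intro a ha ha1 d hd hcomm
    obtain ⟨q, hq, hqd⟩ := Nat.exists_prime_and_dvd (fun h => ha1 (orderOf_eq_one_iff.mp h))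
    have hpow : orderOf (a ^ (orderOf a / q)) = q :=
      orderOf_pow_orderOf_div (orderOf_pos a).ne' hqd
    exact (hprime _ (A.pow_mem ha _) (by rw [hpow]; exact hq)).2 d hd ((show Commute a d from hcomm).pow_left _)
  obtain ⟨a₀, ha₀A, ha₀q⟩ : ∃ a ∈ A, (orderOf a).Prime := by
    have hne : Nat.card A ≠ 1 := fun h => hAne (Subgroup.eq_bot_of_card_eq A h)
    obtain ⟨q, hq, hqd⟩ := Nat.exists_prime_and_dvd hne
    haveI := Fact.mk hq
    obtain ⟨a, ha⟩ := exists_prime_orderOf_dvd_card' q hqd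
    exact ⟨a, a.2, by rw [Subgroup.orderOf_coe, ha]; exact hq⟩
  obtain ⟨hC0, hfix0⟩ := hprime a₀ ha₀A ha₀q
  set Ca := (P : Subgroup G) ⊓ Subgroup.centralizer ({a₀} : Set G) with hCa
  set C := (P : Subgroup G) ⊓ Subgroup.centralizer (A : Set G) with hC
  have hCaD : Ca ⊓ commutator G = ⊥ := by
    rw [eq_bot_iff]
    rintro x ⟨⟨-, hx⟩, hxD⟩
    exact Subgroup.mem_bot.mpr (hfix0 x hxD (Subgroup.mem_centralizer_singleton_iff.mp hx).symm)
  -- every element of `P` is a product
  have hdec : ∀ x ∈ (P : Subgroup G), x ∈ Ca ⊔ commutator G := by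
    intro x hx
    have hd : a₀⁻¹ * (x * a₀ * x⁻¹) ∈ commutator G := by
      have : ⁅a₀⁻¹, x⁆ ∈ commutator G := Subgroup.commutator_mem_commutator (Subgroup.mem_top _) (Subgroup.mem_top _)
      simpa [commutatorElement_def, mul_assoc] using this
    -- `d ↦` conjugate is onto the coset already from the derived subgroup
    haveI : Finite (commutator G) := inferInstance
    let f : commutator G → commutator G := fun d => ⟨a₀⁻¹ * ((d : G) * a₀ * (d : G)⁻¹), by
      have : ⁅a₀⁻¹, (d : G)⁆ ∈ commutator G := Subgroup.commutator_mem_commutator (Subgroup.mem_top _) (Subgroup.mem_top _)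
      simpa [commutatorElement_def, mul_assoc] using this⟩
    have hf : Function.Injective f := by
      intro d e h
      have h' : a₀⁻¹ * ((d : G) * a₀ * (d : G)⁻¹) = a₀⁻¹ * ((e : G) * a₀ * (e : G)⁻¹) := congrArg Subtype.val h
      have h'' := mul_left_cancel h'
      have hde : a₀ * ((e : G)⁻¹ * d) = ((e : G)⁻¹ * d) * a₀ := by
        calc a₀ * ((e : G)⁻¹ * d) = (e : G)⁻¹ * ((e : G) * a₀ * (e : G)⁻¹) * d := by group
          _ = (e : G)⁻¹ * ((d : G) * a₀ * (d : G)⁻¹) * d := by rw [h'']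
          _ = ((e : G)⁻¹ * d) * a₀ := by group
      exact Subtype.ext (inv_mul_eq_one.mp (hfix0 _ ((commutator G).mul_mem ((commutator G).inv_mem e.2) d.2) hde)).symm
    obtain ⟨⟨e, he⟩, hfe⟩ := (Finite.injective_iff_surjective.mp hf) ⟨_, hd⟩
    have h' := mul_left_cancel (congrArg Subtype.val hfe : a₀⁻¹ * (e * a₀ * e⁻¹) = a₀⁻¹ * (x * a₀ * x⁻¹))
    have hmem : e⁻¹ * x ∈ Ca := by
      refine ⟨(P : Subgroup G).mul_mem ((P : Subgroup G).inv_mem (hGP he)) hx, Subgroup.mem_centralizer_singleton_iff.mpr ?_⟩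
      calc e⁻¹ * x * a₀ = e⁻¹ * (x * a₀ * x⁻¹) * x := by group
        _ = e⁻¹ * (e * a₀ * e⁻¹) * x := by rw [h']
        _ = a₀ * (e⁻¹ * x) := by group
    have h2 : x = e * (e⁻¹ * x) := by group
    rw [h2]
    exact Subgroup.mul_mem _ (Subgroup.mem_sup_right he) (Subgroup.mem_sup_left hmem)
  have hCeq : C = Ca := by
    apply le_antisymm
    · exact inf_le_inf_left _ (Subgroup.centralizer_le (Set.singleton_subset_iff.mpr ha₀A))
    · rintro c ⟨hcP, hc⟩
      refine ⟨hcP, Subgroup.mem_centralizer_iff.mpr fun b hb => ?_⟩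
      rw [← commutatorElement_eq_one_iff_mul_comm, ← Subgroup.mem_bot, ← hCaD]
      refine ⟨⟨?_, ?_⟩, Subgroup.commutator_mem_commutator (Subgroup.mem_top b) (Subgroup.mem_top c)⟩
      · exact hGP (Subgroup.commutator_mem_commutator (Subgroup.mem_top b) (Subgroup.mem_top c))
      · refine Subgroup.mem_centralizer_singleton_iff.mpr ?_
        rw [commutatorElement_def]
        have h1 : Commute b a₀ := hAcomm b hb a₀ ha₀A
        have h2 : Commute c a₀ := Subgroup.mem_centralizer_singleton_iff.mp hc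
        exact (((h1.mul_left h2).mul_left h1.inv_left).mul_left h2.inv_left).eq
  have hD : ⁅A, (P : Subgroup G)⁆ = commutator G := by
    apply le_antisymm
    · exact Subgroup.commutator_mono le_top le_top
    · intro d hd
      obtain ⟨x, hx⟩ := exists_conj_eq_mul hC0 hd
      obtain ⟨u, hu, b, hb, rfl⟩ := Subgroup.mem_sup_of_normal_left.mp
        (show x ∈ (P : Subgroup G) ⊔ A by rw [hA.sup_eq_top]; exact Subgroup.mem_top x)
      have h1 : b * a₀ * b⁻¹ = a₀ := by rw [hAcomm b hb a₀ ha₀A, mul_inv_cancel_right]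
      have h2 : d = ⁅a₀⁻¹, u⁆ := by
        calc d = a₀⁻¹ * (a₀ * d) := by group
          _ = a₀⁻¹ * (u * b * a₀ * (u * b)⁻¹) := by rw [hx]
          _ = a₀⁻¹ * (u * (b * a₀ * b⁻¹) * u⁻¹) := by group
          _ = ⁅a₀⁻¹, u⁆ := by rw [h1, commutatorElement_def]; group
      rw [h2]
      exact Subgroup.commutator_mem_commutator (A.inv_mem ha₀A) hu
  have hDne : commutator G ≠ ⊥ := by
    intro h
    apply hab
    refine ⟨⟨fun x y => ?_⟩⟩
    rw [← commutatorElement_eq_one_iff_mul_comm, ← Subgroup.mem_bot, ← h]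
    exact Subgroup.commutator_mem_commutator (Subgroup.mem_top x) (Subgroup.mem_top y)
  haveI hAm : IsMulCommutative A := ⟨⟨fun x y => Subtype.ext (hAcomm x x.2 y y.2)⟩⟩
  have hlat : CfsgLib.Frob.LatFpf A := by
    refine CfsgLib.CN.latFpf_of_fix hDne hAne ?_ fun e he he1 => ?_
    · exact eq_bot_iff.mpr ((inf_le_inf_right A hGP).trans hAP.le)
    · rw [eq_bot_iff]
      rintro d ⟨hd, hde⟩
      exact Subgroup.mem_bot.mpr (hfpf e he he1 d hd (Subgroup.mem_centralizer_singleton_iff.mp hde).symm)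
  haveI : Group.IsNilpotent A := by
    letI : CommGroup A := { (inferInstance : Group A) with mul_comm := fun x y => hAm.is_comm.comm x y }
    exact CommGroup.isNilpotent
  have hcyc : IsCyclic A := Cfsg.Agent.TwoFrobenius.isCyclic_of_latFpf hlat (Or.inr hAm)
  refine ⟨p, hpF, P, A, hPn, hcyc, hAne, hAp, hsup, ?_, by rw [hD]; infer_instance, ?_, ?_, ?_⟩
  · rw [← hC, hCeq]
    refine ⟨⟨fun x y => Subtype.ext ?_⟩⟩
    show (x : G) * y = y * x
    rw [← commutatorElement_eq_one_iff_mul_comm, ← Subgroup.mem_bot, ← hCaD]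
    exact ⟨Ca.mul_mem (Ca.mul_mem (Ca.mul_mem x.2 y.2) (Ca.inv_mem x.2)) (Ca.inv_mem y.2),
      Subgroup.commutator_mem_commutator (Subgroup.mem_top _) (Subgroup.mem_top _)⟩
  · rw [← hC, hCeq, hD]
    exact le_antisymm (sup_le inf_le_left hGP) hdec
  · rw [← hC, hCeq, hD, hCaD]
  · rw [hD]; exact hfpf

/-- Off the Sylow subgroup the nonlinear characters vanish. -/
theorem vanish_off_sylow [Finite G] {p : ℕ} [Fact p.Prime] (P : Sylow p G) (A : Subgroup G)
    (hPn : (P : Subgroup G).Normal) (hcyc : IsCyclic A) (hAp : (Nat.card A).Coprime p)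
    (hsup : A ⊔ (P : Subgroup G) = ⊤) (C D : Subgroup G) (hCA : ∀ c ∈ C, ∀ a ∈ A, a * c = c * a)
    (hCc : ∀ c ∈ C, ∀ c' ∈ C, c * c' = c' * c) (hCP : C ≤ (P : Subgroup G)) (hDn : D.Normal)
    (hCD : C ⊔ D = (P : Subgroup G)) (hfix : ∀ a ∈ A, a ≠ 1 → ∀ d ∈ D, a * d = d * a → d = 1)
    {g : G} (hg : g ∉ (P : Subgroup G)) (χ : IrrCharacter G) (hχ : charDegree (χ : G → ℂ) ≠ 1) :
    (χ : G → ℂ) g = 0 := by
  classical
  haveI := Fintype.ofFinite G
  haveI := finite_irrCharacter (G := G)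
  haveI := Fintype.ofFinite (IrrCharacter G)
  -- every element is `b * c` modulo `D`
  have hdec : ∀ x : G, ∃ b ∈ A, ∃ c ∈ C, ∃ d ∈ D, x = b * c * d := by
    intro x
    obtain ⟨b, hb, u, hu, rfl⟩ := Subgroup.mem_sup_of_normal_right.mp
      (show x ∈ A ⊔ (P : Subgroup G) by rw [hsup]; exact Subgroup.mem_top x)
    rw [← hCD] at hu
    obtain ⟨c, hc, d, hd, rfl⟩ := Subgroup.mem_sup_of_normal_right.mp hu
    exact ⟨b, hb, c, hc, d, hd, (mul_assoc b c d).symm⟩
  -- the factor group modulo `D` is abelian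
  have hGD : commutator G ≤ D := by
    rw [commutator_def, Subgroup.commutator_le]
    intro x _ y _
    obtain ⟨b, hb, c, hc, d, hd, rfl⟩ := hdec x
    obtain ⟨b', hb', c', hc', d', hd', rfl⟩ := hdec y
    rw [← QuotientGroup.eq_one_iff, ← QuotientGroup.mk'_apply, map_commutatorElement,
      commutatorElement_eq_one_iff_mul_comm]
    have hd0 : QuotientGroup.mk' D d = 1 := (QuotientGroup.eq_one_iff d).mpr hd
    have hd1 : QuotientGroup.mk' D d' = 1 := (QuotientGroup.eq_one_iff d').mpr hd'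
    simp only [map_mul, hd0, hd1, mul_one]
    have hAc : Commute b b' := by
      letI := IsCyclic.commGroup (α := A)
      exact congrArg Subtype.val (mul_comm (⟨b, hb⟩ : A) ⟨b', hb'⟩)
    have h1 : Commute b c' := hCA c' hc' b hb
    have h2 : Commute c b' := (hCA c hc b' hb').symm
    have h3 : Commute c c' := hCc c hc c' hc'
    have := ((hAc.mul_right h1).mul_left (h2.mul_right h3)).map (QuotientGroup.mk' D)
    simpa only [map_mul] using this.eq
  obtain ⟨b, hb, c, hc, d, hd, rfl⟩ := hdec g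
  have hb1 : b ≠ 1 := by
    rintro rfl
    rw [one_mul] at hg
    exact hg ((P : Subgroup G).mul_mem (hCP hc) (hCD ▸ Subgroup.mem_sup_right hd))
  have hbc : Commute b c := hCA c hc b hb
  have hco : (orderOf b).Coprime (orderOf c) := by
    obtain ⟨k, hk⟩ := IsPGroup.iff_orderOf.mp P.isPGroup' ⟨c, hCP hc⟩
    rw [Subgroup.orderOf_mk] at hk
    rw [hk]
    exact (Nat.Coprime.coprime_dvd_left (Subgroup.orderOf_dvd_natCard A hb) hAp).pow_right k
  -- anything commuting with `b * c` commutes with `b`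
  have hcent : ∀ z : G, Commute (b * c) z → Commute b z := by
    intro z hz
    obtain ⟨m, hm⟩ := exists_pow_eq_self_of_coprime hco.symm
    have h1 : (b * c) ^ orderOf c = b ^ orderOf c := by
      rw [hbc.mul_pow, pow_orderOf_eq_one, mul_one]
    rw [← hm, ← h1]
    exact (hz.pow_left _).pow_left _
  let f : D → D := fun e => ⟨(b * c)⁻¹ * ((e : G) * (b * c) * (e : G)⁻¹), by
    have h1 := hDn.conj_mem _ e.2 (b * c)⁻¹
    rw [inv_inv] at h1
    have h2 := D.mul_mem h1 (D.inv_mem e.2)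
    convert h2 using 1
    group⟩
  have hf : Function.Injective f := by
    intro u e h
    have h' := mul_left_cancel (congrArg Subtype.val h :
      (b * c)⁻¹ * ((u : G) * (b * c) * (u : G)⁻¹) = (b * c)⁻¹ * ((e : G) * (b * c) * (e : G)⁻¹))
    have hde : Commute (b * c) ((e : G)⁻¹ * u) := by
      calc (b * c) * ((e : G)⁻¹ * u) = (e : G)⁻¹ * ((e : G) * (b * c) * (e : G)⁻¹) * u := by group
        _ = (e : G)⁻¹ * ((u : G) * (b * c) * (u : G)⁻¹) * u := by rw [h']
        _ = ((e : G)⁻¹ * u) * (b * c) := by group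
    exact Subtype.ext (inv_mul_eq_one.mp (hfix b hb hb1 _ (D.mul_mem (D.inv_mem e.2) u.2) (hcent _ hde))).symm
  obtain ⟨⟨e, he⟩, hfe⟩ := (Finite.injective_iff_surjective.mp hf) ⟨d, hd⟩
  have h' : (b * c)⁻¹ * (e * (b * c) * e⁻¹) = d := congrArg Subtype.val hfe
  have hge : b * c * d = e * (b * c) * e⁻¹ := by rw [← h', mul_inv_cancel_left]
  rw [hge, isClassFunction (isCharacter_of_irr χ.2)]
  refine vanish_of_centralizer_card ?_ χ hχ
  refine le_trans ?_ (Nat.le_of_dvd (Nat.pos_of_ne_zero Subgroup.index_ne_zero_of_finite)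
    (Subgroup.index_dvd_of_le hGD))
  refine Nat.card_le_card_of_injective (fun z => QuotientGroup.mk (s := D) (z : G)) fun z w h => ?_
  rw [QuotientGroup.eq] at h
  have hz : Commute b (z : G) := hcent _ (Subgroup.mem_centralizer_singleton_iff.mp z.2).symm
  have hw : Commute b (w : G) := hcent _ (Subgroup.mem_centralizer_singleton_iff.mp w.2).symm
  exact Subtype.ext (inv_mul_eq_one.mp (hfix b hb hb1 _ h (hz.inv_right.mul_right hw).eq))

theorem mulCond_of_cases [Finite G] (h : (∃ p : ℕ, p.Prime ∧ IsPGroup p G) ∨ IsMulCommutative G ∨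
    ∃ (p : ℕ) (_ : Fact p.Prime) (P : Sylow p G) (A : Subgroup G), (P : Subgroup G).Normal ∧ IsCyclic ↥A ∧
      A ≠ ⊥ ∧ (Nat.card ↥A).Coprime p ∧ A ⊔ (P : Subgroup G) = ⊤ ∧
      IsMulCommutative ↥((P : Subgroup G) ⊓ Subgroup.centralizer (A : Set G)) ∧
      (⁅A, (P : Subgroup G)⁆).Normal ∧
      ((P : Subgroup G) ⊓ Subgroup.centralizer (A : Set G)) ⊔ ⁅A, (P : Subgroup G)⁆ = (P : Subgroup G) ∧
      ((P : Subgroup G) ⊓ Subgroup.centralizer (A : Set G)) ⊓ ⁅A, (P : Subgroup G)⁆ = ⊥ ∧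
      ∀ a ∈ A, a ≠ 1 → ∀ d ∈ ⁅A, (P : Subgroup G)⁆, a * d = d * a → d = 1) : MulCond G := by
  intro x y χ hx hy hxy
  obtain ⟨r, s, a, b, hr, hs, hrs, hox, hoy⟩ := hxy
  rcases h with ⟨p, hp, hG⟩ | hc | ⟨p, hpF, P, A, hPn, hcyc, -, hAp, hsup, hCc, hDn, hCD, -, hfix⟩
  · exfalso
    haveI := Fact.mk hp
    have key : ∀ (z : G) (t n : ℕ), z ≠ 1 → t.Prime → orderOf z = t ^ n → t = p := by
      intro z t n hz ht hoz
      obtain ⟨k, hk⟩ := IsPGroup.iff_orderOf.mp hG z
      have hn : n ≠ 0 := fun h => hz (orderOf_eq_one_iff.mp (by rw [hoz, h, pow_zero]))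
      exact (Nat.prime_dvd_prime_iff_eq ht hp).mp (ht.dvd_of_dvd_pow ((dvd_pow_self t hn).trans (dvd_of_eq (hoz.symm.trans hk))))
    exact hrs ((key x r a hx hr hox).trans (key y s b hy hs hoy).symm)
  · haveI := hc
    exact (irr_comm_hom χ.2).2 x y
  · by_cases hχ : charDegree (χ : G → ℂ) = 1
    · exact CfsgLib.PiClasses.apply_mul_of_degree_one (isCharacter_of_irr χ.2) hχ x y
    have hvan : ∀ g : G, g ∉ (P : Subgroup G) → (χ : G → ℂ) g = 0 := fun g hg =>
      vanish_off_sylow P A hPn hcyc hAp hsup _ _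
        (fun c (hc : c ∈ (P : Subgroup G) ⊓ Subgroup.centralizer (A : Set G)) a ha =>
          Subgroup.mem_centralizer_iff.mp hc.2 a ha)
        (fun c hc c' hc' => congrArg Subtype.val (hCc.is_comm.comm
          (⟨c, hc⟩ : ↥((P : Subgroup G) ⊓ Subgroup.centralizer (A : Set G))) ⟨c', hc'⟩))
        inf_le_left hDn hCD hfix hg χ hχ
    have hout : ∀ (z : G) (t n : ℕ), z ≠ 1 → t.Prime → t ≠ p → orderOf z = t ^ n → z ∉ (P : Subgroup G) := by
      intro z t n hz ht htp hoz hzP
      obtain ⟨k, hk⟩ := IsPGroup.iff_orderOf.mp P.isPGroup' ⟨z, hzP⟩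
      rw [Subgroup.orderOf_mk] at hk
      have hn : n ≠ 0 := fun h => hz (orderOf_eq_one_iff.mp (by rw [hoz, h, pow_zero]))
      exact htp ((Nat.prime_dvd_prime_iff_eq ht hpF.out).mp
        (ht.dvd_of_dvd_pow ((dvd_pow_self t hn).trans (dvd_of_eq (hoz.symm.trans hk)))))
    have hin : ∀ (z : G) (n : ℕ), orderOf z = p ^ n → z ∈ (P : Subgroup G) := by
      intro z n hoz
      have hz : IsPGroup p (Subgroup.zpowers z) := IsPGroup.of_card (n := n) (by rw [Nat.card_zpowers, hoz])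
      obtain ⟨P', hP'⟩ := hz.exists_le_sylow
      haveI := Sylow.unique_of_normal P hPn
      rw [Subsingleton.elim P P']
      exact hP' (Subgroup.mem_zpowers z)
    have hprod : x * y ∉ (P : Subgroup G) ∧ (x ∉ (P : Subgroup G) ∨ y ∉ (P : Subgroup G)) := by
      by_cases hrp : r = p
      · subst hrp
        have hxP := hin x a hox
        have hyP := hout y s b hy hs (Ne.symm hrs) hoy
        exact ⟨fun h => hyP (((P : Subgroup G).mul_mem_cancel_left hxP).mp h), Or.inr hyP⟩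
      have hxP := hout x r a hx hr hrp hox
      refine ⟨fun h => ?_, Or.inl hxP⟩
      by_cases hsp : s = p
      · subst hsp
        exact hxP (((P : Subgroup G).mul_mem_cancel_right (hin y b hoy)).mp h)
      apply hxP
      haveI := hPn
      rw [← QuotientGroup.eq_one_iff, ← orderOf_eq_one_iff]
      have h1 : orderOf (QuotientGroup.mk (s := (P : Subgroup G)) x) ∣ r ^ a :=
        hox ▸ orderOf_map_dvd (QuotientGroup.mk' (P : Subgroup G)) x
      have h2 : orderOf (QuotientGroup.mk (s := (P : Subgroup G)) x) ∣ s ^ b := by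
        have hinv : (QuotientGroup.mk (s := (P : Subgroup G)) x) = (QuotientGroup.mk y)⁻¹ := by
          rw [eq_inv_iff_mul_eq_one, ← QuotientGroup.mk_mul]
          exact (QuotientGroup.eq_one_iff _).mpr h
        rw [hinv, orderOf_inv]
        exact hoy ▸ orderOf_map_dvd (QuotientGroup.mk' (P : Subgroup G)) y
      exact Nat.eq_one_of_dvd_coprimes (((Nat.coprime_primes hr hs).mpr hrs).pow a b) h1 h2
    rw [hvan _ hprod.1]
    rcases hprod.2 with h | h <;> simp [hvan _ h]

end CfsgLib.CharMult
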